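import Cfsg.Agent.Lib.Spor.TC.Signed

/-!
An excluded extension of the centralizer, case 0 0 3: tables found by a computer search.
-/

set_option autoImplicit false
set_option maxRecDepth 100000

namespace CfsgLib.Spor.HSType.Cert.H003

open CfsgLib.Spor.TC

def edgeTbl : Tbl :=
  (.bin (.bin (.tip 0x140000d200008000142000120000080001300003900012000130000000001280000e000006000110000c7000100001130000f0001000000e0000f20000e0000e4000000000e60000c0000d30000c0000720000b0000c10000a0000b3000090000a30000800009000004000082000070000120000600007100005000063000040000500000100004200001000015000030000000000200003000000000004000000000020000100002000000000010) (.tip 0x300000a0001300012a0001500012a000160001640003400016a000340003440000e000348000160003020003100016a000320000ea000330000fa0002100010a0002200011a000230000ca0002500023a000240000da0002a00014a000330002100003200033200031000328000300003130002f0003000002e0002f20002d0002e80002c0002d30002b0002c0000290002b2000270002240002a000242)) (.bin (.tip 0x2a000234000070002a40002900007900028000290000060002880002700007700026000270000060002660002500014500024000252000240000840000400024400013000038000230000740002200023700021000223000200002150001f0002020001e0001f40001d0001e70001c0001d30001b0001c40001a0001b9000190001a3000180001900001700018000015000172000160000e800015000166000150001200000100015800004000085)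 .none))

def nodeTbl : Tbl :=
  (.bin (.tip 0x1e40001d70001c30001b40001a90001930001800001700001520001560000180000820001200000080001030000f00000e20000060000c30000b10000a3000093000080000042000061000053000040000012000020000010000000000000) (.tip 0xe80003220003180003030002f00002e20002d80002c30002b00002920000740002800000680002600000660002420000440002270002130002050001f2))

def rowTbl : Tbl :=
  .none

/-- The relators. -/
def rels : List (List ℕ) := [
  [0, 0, 0, 0],
  [2, 2, 2, 2, 2, 2, 2],
  [4, 4, 4],
  [4, 2, 5, 3, 3],
  [4, 0, 5, 1],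
  [0, 2, 0, 3, 1, 2, 1, 3],
  [0, 2, 2, 0, 3, 3, 1, 2, 2, 1, 3, 3],
  [2, 0, 3, 2, 2, 0, 3, 3, 2, 1, 3, 2, 2, 1, 3, 3],
  [2, 2, 2, 0, 3, 3, 3, 2, 2, 1, 3, 3, 2, 2, 1, 3, 3, 2, 1, 3, 2, 1, 3, 2, 1, 3, 1],
  [6, 4, 7, 4],
  [6, 0, 7, 0],
  [6, 2, 0, 3, 7, 2, 2, 1, 3, 3],
  [6, 6],
  [2, 6, 2, 6, 2, 6],
  [8, 4, 9, 5],
  [8, 0, 9, 0],
  [8, 8],
  [8, 6, 8, 6, 1, 1, 1],
  [8, 2, 0, 0, 3, 9, 4, 3, 7, 4, 2, 5, 3, 7, 4, 2],
  [8, 3, 5, 6, 2, 9, 2, 2, 1, 3, 3, 2, 2, 1, 3, 3],
  [8, 2, 0, 3, 8, 2, 0, 3, 8, 2, 0, 3, 5, 7]]

/-- The generators of the subgroup. -/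
def subs : List (List ℕ) := [[2], [4]]

/-- The certificate. -/
noncomputable def cert : Cert :=
  ⟨10, rels, subs, edgeTbl.get 44, nodeTbl.get 24, rowTbl.get 20⟩

/-- The word traced into the subgroup. -/
def target : List ℕ := [0, 0]

end CfsgLib.Spor.HSType.Cert.H003
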